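import Groth.Agent.Lib.ARSys.Sub
import Mathlib.CategoryTheory.Abelian.GrothendieckAxioms.Colim
import Mathlib.CategoryTheory.Abelian.GrothendieckCategory.Basic
import Mathlib.CategoryTheory.Functor.ReflectsIso.Balanced
import Mathlib.CategoryTheory.Abelian.Exact
import Mathlib.CategoryTheory.Limits.Preserves.Filtered
import Mathlib.CategoryTheory.Limits.Filtered
import Mathlib.Algebra.Homology.ShortComplex.Exact

/-!
Faithful exact left adjoints to finitary functors and noetherian objects.
-/

set_option autoImplicit false
set_option linter.unusedSectionVars false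
set_option maxHeartbeats 1000000
universe w u₁ u₂

open CategoryTheory CategoryTheory.Limits ZeroObject

namespace GrothLib.NoethAdj19

variable {A : Type u₁} [Category.{w} A] [Abelian A] {B : Type u₂} [Category.{w} B] [Abelian B]
  (F : A ⥤ B) [F.Additive] [F.Faithful] [PreservesFiniteLimits F] [PreservesFiniteColimits F]

instance mono_map_of_mono {X Y : A} (f : X ⟶ Y) [Mono f] : Mono (F.map f) := inferInstance

theorem reflectsIso : F.ReflectsIsomorphisms := inferInstance

/-- The image of a subobject. -/
noncomputable def subMap (a : A) (S : Subobject a) : Subobject (F.obj a) := Subobject.mk (F.map S.arrow)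

theorem subMap_strictMono (a : A) : StrictMono (subMap F a) := by
  have := reflectsIso F
  intro S T hST
  refine lt_of_le_of_ne (Subobject.mk_le_mk_of_comm (F.map (S.ofLE T hST.le))
    (by rw [← F.map_comp, Subobject.ofLE_arrow])) fun e => hST.ne (le_antisymm hST.le ?_)
  let l : F.obj (S : A) ⟶ F.obj (T : A) := F.map (S.ofLE T hST.le)
  have hl : l = (Subobject.isoOfMkEqMk _ _ e).hom := by
    rw [← cancel_mono (F.map T.arrow)]
    simp [l, ← F.map_comp, Subobject.isoOfMkEqMk]
  have : IsIso l := by rw [hl]; infer_instance
  have : IsIso (S.ofLE T hST.le) := isIso_of_reflects_iso _ F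
  exact Subobject.le_of_comm (inv (S.ofLE T hST.le)) (by simp)

theorem noeth_of_map (a : A) [IsNoetherianObject (F.obj a)] : IsNoetherianObject a :=
  isNoetherianObject.is_of_prop ((subMap_strictMono F a).wellFoundedGT)

theorem le_of_subMap_eq (a : A) {S T : Subobject a} (h : subMap F a S = subMap F a T) : S ≤ T := by
  have hle : Subobject.mk (F.map S.arrow) ≤ Subobject.mk (F.map T.arrow) := le_of_eq h
  have h1 : F.map (S.arrow ≫ cokernel.π T.arrow) = 0 := by
    rw [F.map_comp, ← Subobject.ofMkLEMk_comp hle, Category.assoc, ← F.map_comp, cokernel.condition,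
      F.map_zero, comp_zero]
  exact Subobject.le_of_comm (Abelian.monoLift T.arrow S.arrow (F.map_eq_zero_iff.1 h1))
    (Abelian.monoLift_comp _ _ _)

include F in
theorem small_subobject [WellPowered.{w} B] (a : A) : Small.{w} (Subobject a) :=
  small_of_injective (f := subMap F a) fun _ _ h =>
    le_antisymm (le_of_subMap_eq F a h) (le_of_subMap_eq F a h.symm)

theorem exactColimits [HasColimitsOfSize.{w, w} A] [HasColimitsOfSize.{w, w} B] [AB5OfSize.{w, w} B]
    {G : B ⥤ A} (adj : F ⊣ G) : AB5OfSize.{w, w} A where
  ofShape J _ _ := ⟨by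
    have := reflectsIso F
    have := adj.leftAdjoint_preservesColimits
    let e : colim (J := J) (C := A) ⋙ F ≅ (Functor.whiskeringRight J A B).obj F ⋙ colim :=
      preservesColimitNatIso F
    have : PreservesFiniteLimits ((Functor.whiskeringRight J A B).obj F) :=
      ⟨fun K _ _ => inferInstance⟩
    have : PreservesFiniteLimits ((Functor.whiskeringRight J A B).obj F ⋙ colim) :=
      comp_preservesFiniteLimits _ _
    have : PreservesFiniteLimits (colim (J := J) (C := A) ⋙ F) := preservesFiniteLimits_of_natIso e.symm
    exact ⟨fun K _ _ =>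
      have := reflectsLimitsOfShape_of_reflectsIsomorphisms (G := F) (J := K)
      preservesLimitsOfShape_of_reflects_of_preserves _ F⟩⟩

section Cover

variable [HasColimitsOfSize.{w, w} A] [AB5OfSize.{w, w} A] {ι : Type w} (s : ι → B)
  (hsN : ∀ i, IsNoetherianObject (s i))
  (hsep : ∀ ⦃X Y : B⦄ (f g : X ⟶ Y), (∀ (i : ι) (h : s i ⟶ X), h ≫ f = h ≫ g) → f = g)
  [HasColimitsOfSize.{w, w} B] [AB5OfSize.{w, w} B]
  {G : B ⥤ A} (adj : F ⊣ G) [PreservesFilteredColimitsOfSize.{w, w} G]

variable (a : A)

/-- Maps from the generators. -/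
abbrev Idx := Σ i : ι, (s i ⟶ F.obj a)

variable {F s a}

/-- The part generated by finitely many maps. -/
noncomputable def part (S : Finset (Idx F s a)) : Subobject (F.obj a) :=
  imageSubobject (Sigma.desc fun x : S => x.1.2)

theorem part_mono : Monotone (part (F := F) (s := s) (a := a)) := fun S T h =>
  imageSubobject_le _ (Sigma.desc fun x : S => Sigma.ι (fun x : T => s x.1.1) ⟨x.1, h x.2⟩ ≫
    factorThruImageSubobject (Sigma.desc fun x : T => x.1.2))
    (Sigma.hom_ext _ _ fun x => by
      rw [Sigma.ι_desc_assoc]
      erw [Category.assoc, imageSubobject_arrow_comp, Sigma.ι_desc, Sigma.ι_desc])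

include hsN in
theorem noeth_part (S : Finset (Idx F s a)) : IsNoetherianObject (part S : B) := by
  classical
  let sup := fun T : Finset (Idx F s a) => T.sup fun x => imageSubobject x.2
  have hsup : ∀ T, IsNoetherianObject (sup T : B) := by
    intro T
    induction T using Finset.induction_on with
    | empty =>
      exact isNoetherianObject_of_isZero ((isZero_zero B).of_iso Subobject.botCoeIsoZero)
    | @insert x T _ ih =>
      have hx : IsNoetherianObject (imageSubobject x.2 : B) :=
        have := hsN x.1
        ARSys.noeth_of_epi (factorThruImageSubobject x.2)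
      have : sup (insert x T) = imageSubobject x.2 ⊔ sup T := Finset.sup_insert
      rw [this]
      let φ := biprod.desc (imageSubobject x.2).arrow (sup T).arrow
      have : IsNoetherianObject (imageSubobject φ : B) := ARSys.noeth_of_epi (factorThruImageSubobject φ)
      have hle : imageSubobject x.2 ⊔ sup T ≤ imageSubobject φ := sup_le
        (Subobject.le_of_comm (biprod.inl ≫ factorThruImageSubobject φ) (by simp [φ]))
        (Subobject.le_of_comm (biprod.inr ≫ factorThruImageSubobject φ) (by simp [φ]))
      exact isNoetherianObject_of_mono (Subobject.ofLE _ _ hle)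
  have := hsup S
  have hle : part S ≤ sup S := imageSubobject_le _
    (Sigma.desc fun x : S => factorThruImageSubobject x.1.2 ≫
      Subobject.ofLE _ _ (Finset.le_sup (f := fun x : Idx F s a => imageSubobject x.2) x.2))
    (Sigma.hom_ext _ _ fun x => by simp [sup])
  exact isNoetherianObject_of_mono (Subobject.ofLE _ _ hle)

/-- The part of `a` lying over a part of `F a`. -/
noncomputable def pull (S : Finset (Idx F s a)) : Subobject a :=
  kernelSubobject (adj.unit.app a ≫ cokernel.π (G.map (part S).arrow))

theorem pull_mono : Monotone (pull (F := F) (s := s) adj (a := a)) := fun S T h => by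
  refine Subobject.le_of_comm (factorThruKernelSubobject _ (pull adj S).arrow ?_) (by simp [pull])
  have e : cokernel.π (G.map (part T).arrow) = cokernel.π (G.map (part S).arrow) ≫
      cokernel.desc (G.map (part S).arrow) (cokernel.π (G.map (part T).arrow))
        (by rw [← Subobject.ofLE_arrow (part_mono h), G.map_comp, Category.assoc, cokernel.condition, comp_zero]) :=
    (cokernel.π_desc _ _ _).symm
  rw [pull, e, ← Category.assoc (adj.unit.app a), ← Category.assoc, kernelSubobject_arrow_comp, zero_comp]

include hsep in
/-- The parts jointly generate, also after applying `G`. -/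
theorem hom_ext_part ⦃W : A⦄ (k : G.obj (F.obj a) ⟶ W)
    (hk : ∀ S : Finset (Idx F s a), G.map (part S).arrow ≫ k = 0) : k = 0 := by
  classical
  let N : Finset (Idx F s a) ⥤ B := part_mono.functor ⋙ Subobject.underlying
  let cN : Cocone N := ⟨F.obj a, { app := fun S => (part S).arrow
                                   naturality := fun S T h => (Subobject.underlying_arrow _).trans (Category.comp_id _).symm }⟩
  have := IsFiltered.isConnected (Finset (Idx F s a))
  have : Mono cN.ι := @NatTrans.mono_of_mono_app _ _ _ _ _ _ cN.ι (fun S => inferInstanceAs (Mono (part S).arrow))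
  have hm : Mono (colimit.desc N cN) :=
    colim.map_mono' cN.ι (colimit.isColimit N) (isColimitConstCocone _ cN.pt) _ fun j => by
      simp [constCocone]
  have he : Epi (colimit.desc N cN) := Preadditive.epi_of_cancel_zero _ fun g hg => by
    refine hsep g 0 fun i h => ?_
    let S₁ : Finset (Idx F s a) := {⟨i, h⟩}
    have h1 : (part S₁).arrow ≫ g = 0 := by
      have := colimit.ι N S₁ ≫= hg
      rw [colimit.ι_desc_assoc, comp_zero] at this
      exact this
    have e : (Sigma.ι (fun x : S₁ => s x.1.1) ⟨⟨i, h⟩, Finset.mem_singleton_self _⟩ ≫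
        factorThruImageSubobject (Sigma.desc fun x : S₁ => x.1.2)) ≫ (part S₁).arrow = h :=
      (Category.assoc _ _ _).trans ((congrArg (fun z => Sigma.ι _ _ ≫ z) (imageSubobject_arrow_comp _)).trans
        (Sigma.ι_desc _ _))
    rw [comp_zero, ← e]
    exact (Category.assoc _ _ _).trans ((congrArg (fun z => _ ≫ z) h1).trans comp_zero)
  have : IsIso (colimit.desc N cN) := isIso_of_mono_of_epi _
  rw [← cancel_epi (G.map (colimit.desc N cN)), comp_zero]
  refine (isColimitOfPreserves G (colimit.isColimit N)).hom_ext fun S => ?_
  simp only [Functor.mapCocone_ι_app, colimit.cocone_ι, ← G.map_comp_assoc, colimit.ι_desc, comp_zero]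
  exact hk S

theorem map_le {S T : Finset (Idx F s a)} (h : S ≤ T) :
    G.map (part S).arrow ≫ cokernel.π (G.map (part T).arrow) = 0 := by
  rw [← Subobject.ofLE_arrow (part_mono h), G.map_comp, Category.assoc, cokernel.condition, comp_zero]

include hsep in
theorem jointly_epi_pull ⦃Z : A⦄ (g : a ⟶ Z) (hg : ∀ S, (pull (s := s) adj S).arrow ≫ g = 0) : g = 0 := by
  classical
  let P : Finset (Idx F s a) ⥤ A :=
    { obj := fun S => cokernel (G.map (part S).arrow)
      map := fun {S T} h => cokernel.desc _ (cokernel.π (G.map (part T).arrow)) (map_le h.le)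
      map_id := fun S => coequalizer.hom_ext (by simp)
      map_comp := fun {S T U} h h' => coequalizer.hom_ext (by simp) }
  let K : Finset (Idx F s a) ⥤ A := (pull_mono (s := s) adj).functor ⋙ Subobject.underlying
  let α : K ⟶ (Functor.const _).obj a :=
    { app := fun S => (pull adj S).arrow
      naturality := fun S T h => (Subobject.underlying_arrow _).trans (Category.comp_id _).symm }
  let β : (Functor.const (Finset (Idx F s a))).obj a ⟶ P :=
    { app := fun S => adj.unit.app a ≫ cokernel.π (G.map (part S).arrow)
      naturality := fun S T h => by simp [P] }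
  let S' : ShortComplex (Finset (Idx F s a) ⥤ A) := ShortComplex.mk α β (by
    ext S
    exact kernelSubobject_arrow_comp _)
  have hS' : S'.Exact := by
    rw [ShortComplex.exact_iff_isZero_homology]
    refine Functor.isZero _ fun S => ?_
    refine IsZero.of_iso ?_ (S'.mapHomologyIso ((evaluation _ _).obj S)).symm
    have : Mono (S'.map ((evaluation (Finset (Idx F s a)) A).obj S)).f :=
      inferInstanceAs (Mono (pull adj S).arrow)
    refine (ShortComplex.exact_iff_isZero_homology _).1
      (ShortComplex.exact_of_f_is_kernel _ (KernelFork.IsLimit.ofι' _ _ fun {W} k hk => ?_))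
    exact ⟨factorThruKernelSubobject _ k hk, factorThruKernelSubobject_comp_arrow _ _ _⟩
  have hP : IsZero (colimit P) := by
    rw [IsZero.iff_id_eq_zero]
    refine colimit.hom_ext fun S => ?_
    rw [Category.comp_id, comp_zero, ← cancel_epi (cokernel.π (G.map (part S).arrow)), comp_zero]
    refine hom_ext_part hsep _ fun T => ?_
    have h1 : ∀ {S T : Finset (Idx F s a)} (h : S ≤ T), cokernel.π (G.map (part S).arrow) ≫ colimit.ι P S =
        cokernel.π (G.map (part T).arrow) ≫ colimit.ι P T := fun {S T} h => by
      rw [← colimit.w P (homOfLE h)]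
      exact cokernel.π_desc_assoc _ _ _ _
    rw [h1 (Finset.subset_union_left (s₁ := S) (s₂ := T)), ← h1 (Finset.subset_union_right (s₁ := S) (s₂ := T)),
      cokernel.condition_assoc, zero_comp]
  have := IsFiltered.isConnected (Finset (Idx F s a))
  let cK : Cocone K := ⟨a, α⟩
  let γ : a ⟶ colimit P := β.app ∅ ≫ colimit.ι P ∅
  have hex := colim.exact_mapShortComplex (S := S') hS' (colimit.isColimit K) (c₂ := constCocone _ a)
    (isColimitConstCocone _ a) (c₃ := colimit.cocone P) (colimit.isColimit P) (colimit.desc K cK) γ
    (fun S => (colimit.ι_desc cK S).trans (Category.comp_id _).symm)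
    (fun S => (Category.id_comp γ).trans (hP.eq_of_tgt _ _))
  have : Epi (colimit.desc K cK) := hex.epi_f (hP.eq_of_tgt _ _)
  rw [← cancel_epi (colimit.desc K cK), comp_zero]
  refine colimit.hom_ext fun S => ?_
  rw [colimit.ι_desc_assoc, comp_zero]
  exact hg S

/-- `F` of a pulled back part maps monomorphically into the part. -/
theorem exists_mono (S : Finset (Idx F s a)) : ∃ φ : F.obj (pull adj S : A) ⟶ (part S : B), Mono φ := by
  have := adj.rightAdjoint_preservesLimits
  have hz : ((pull adj S).arrow ≫ adj.unit.app a) ≫ cokernel.π (G.map (part S).arrow) = 0 := by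
    rw [Category.assoc]
    exact kernelSubobject_arrow_comp _
  let l := Abelian.monoLift (G.map (part S).arrow) _ hz
  refine ⟨F.map l ≫ adj.counit.app _, ?_⟩
  have e : (F.map l ≫ adj.counit.app _) ≫ (part S).arrow = F.map (pull adj S).arrow := by
    have h := adj.counit.naturality (part S).arrow
    simp only [Functor.comp_map, Functor.id_map] at h
    rw [Category.assoc]
    erw [← h]
    rw [← F.map_comp_assoc, Abelian.monoLift_comp, F.map_comp_assoc, adj.left_triangle_components]
    exact Category.comp_id _
  exact mono_of_mono_fac e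

include hsN in
theorem noeth_pull (S : Finset (Idx F s a)) : IsNoetherianObject (pull adj S : A) := by
  obtain ⟨φ, hφ⟩ := exists_mono adj S
  have := noeth_part hsN S
  have : IsNoetherianObject (F.obj (pull adj S : A)) := isNoetherianObject_of_mono φ
  exact noeth_of_map F _

include hsep in
theorem exists_pull_eq_top (ha : IsNoetherianObject a) : ∃ S : Finset (Idx F s a), pull adj S = ⊤ := by
  classical
  obtain ⟨x, hx, hmax⟩ := WellFounded.has_min (wellFounded_gt (α := Subobject a))
    (Set.range (pull (s := s) adj)) (Set.range_nonempty _)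
  obtain ⟨S, rfl⟩ := hx
  refine ⟨S, ?_⟩
  have hall : ∀ T, pull adj T ≤ pull adj S := fun T => by
    have h1 := pull_mono adj (Finset.subset_union_left (s₁ := S) (s₂ := T))
    have h2 := pull_mono adj (Finset.subset_union_right (s₁ := S) (s₂ := T))
    rcases h1.eq_or_lt with h | h
    · exact h.symm ▸ h2
    · exact absurd h (hmax _ ⟨_, rfl⟩)
  have hc : cokernel.π (pull adj S).arrow = 0 := jointly_epi_pull hsep adj _ fun T => by
    rw [← Subobject.ofLE_arrow (hall T), Category.assoc, cokernel.condition, comp_zero]
  have : Epi (pull adj S).arrow := Abelian.epi_of_cokernel_π_eq_zero _ hc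
  have : IsIso (pull adj S).arrow := isIso_of_mono_of_epi _
  exact Subobject.eq_top_of_isIso_arrow _

include hsN hsep adj in
theorem noeth_map (ha : IsNoetherianObject a) : IsNoetherianObject (F.obj a) := by
  obtain ⟨S, hS⟩ := exists_pull_eq_top hsep adj ha
  obtain ⟨φ, hφ⟩ := exists_mono adj S
  have : IsIso (pull adj S).arrow := by rw [hS]; infer_instance
  have := noeth_part hsN S
  exact isNoetherianObject_of_mono (inv (F.map (pull adj S).arrow) ≫ φ)

include hsN hsep adj in
/-- A small separating family of noetherian objects. -/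
theorem exists_family [WellPowered.{w} B] :
    ∃ (κ : Type w) (t : κ → A), (∀ k, IsNoetherianObject (t k)) ∧
      ∀ ⦃X Y : A⦄ (f g : X ⟶ Y), (∀ (k : κ) (h : t k ⟶ X), h ≫ f = h ≫ g) → f = g := by
  classical
  have := adj.rightAdjoint_preservesLimits
  have : ∀ a : A, Small.{w} (Subobject a) := small_subobject F
  let M : ∀ (n : ℕ) (f : Fin n → ι) (_ : Shrink.{w} (Subobject (∐ fun i => s (f i)))), A :=
    fun n f K => G.obj (cokernel ((equivShrink _).symm K).arrow)
  let κ : Type w := Σ (n : ℕ) (f : Fin n → ι) (K : Shrink.{w} (Subobject (∐ fun i => s (f i)))),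
    {L : Shrink.{w} (Subobject (M n f K)) // IsNoetherianObject (((equivShrink (Subobject (M n f K))).symm L : Subobject (M n f K)) : A)}
  refine ⟨κ, fun k => (((equivShrink (Subobject (M k.1 k.2.1 k.2.2.1))).symm k.2.2.2.1 : Subobject _) : A), fun k => k.2.2.2.2, fun X Y f g h => ?_⟩
  refine sub_eq_zero.1 (jointly_epi_pull hsep adj (a := X) (f - g) fun S => ?_)
  have hN := noeth_pull hsN adj S
  obtain ⟨φ, hφ⟩ := exists_mono adj S
  let n := Fintype.card S
  let e : Fin n ≃ S := (Fintype.equivFin S).symm
  let f' : Fin n → ι := fun i => (e i).1.1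
  let q : (∐ fun i => s (f' i)) ⟶ (part S : B) :=
    (Sigma.reindex e fun x : S => s x.1.1).hom ≫ factorThruImageSubobject _
  let K : Shrink.{w} (Subobject (∐ fun i => s (f' i))) := equivShrink _ (kernelSubobject q)
  have hK : ((equivShrink _).symm K) = kernelSubobject q := Equiv.symm_apply_apply _ _
  have hw : (kernelSubobject q).arrow ≫ q = 0 := kernelSubobject_arrow_comp q
  have hq : (ShortComplex.mk _ q hw).Exact := ShortComplex.exact_of_f_is_kernel _
    (KernelFork.IsLimit.ofι' _ _ fun {W} k hk =>
      ⟨factorThruKernelSubobject _ k hk, factorThruKernelSubobject_comp_arrow _ _ _⟩)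
  have : Epi (factorThruImageSubobject (Sigma.desc fun x : S => x.1.2)) := inferInstance
  have : Epi (ShortComplex.mk _ q hw).g :=
    show Epi q from @epi_comp _ _ _ _ _ _ inferInstance _ this
  let θ : (part S : B) ≅ cokernel ((equivShrink _).symm K).arrow :=
    hq.gIsCokernel.coconePointUniqueUpToIso (colimit.isColimit _) ≪≫
      eqToIso (congrArg (fun T : Subobject (∐ fun i => s (f' i)) => cokernel T.arrow) hK.symm)
  let u : (pull adj S : A) ⟶ M n f' K := adj.homEquiv _ _ (φ ≫ θ.hom)
  have : Mono u := by
    rw [show u = adj.unit.app _ ≫ G.map (φ ≫ θ.hom) from adj.homEquiv_unit _ _ _]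
    infer_instance
  let L : Shrink.{w} (Subobject (M n f' K)) := equivShrink _ (Subobject.mk u)
  let w : (pull adj S : A) ≅ (((equivShrink (Subobject (M n f' K))).symm L : Subobject _) : A) :=
    (Subobject.underlyingIso u).symm ≪≫ eqToIso (by rw [Equiv.symm_apply_apply])
  have hL : IsNoetherianObject (((equivShrink (Subobject (M n f' K))).symm L : Subobject _) : A) := isNoetherianObject_of_mono w.inv
  have := h ⟨n, f', K, L, hL⟩ (w.inv ≫ (pull adj S).arrow)
  simp only [Category.assoc, cancel_epi] at this
  rw [Preadditive.comp_sub, this, sub_self]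

end Cover

end GrothLib.NoethAdj19
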